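import Cfsg.Agent.Lib.Recog.FiThreeSylow.Elem

/-!
Normal elementary abelian subgroups of a Sylow 2-subgroup of Fi23 (owner: helper18).
-/

set_option autoImplicit false
set_option maxRecDepth 100000
set_option linter.style.haveILetI false

namespace CfsgLib.Recog.FiThreeSylow

open Cfsg CfsgLib.Recog.BitPerm
open CfsgLib.Recog.FiThree (word act act_maps finite_fi23')

attribute [local instance] finite_fi23'

/-- The element permutes the base points by the given permutation. -/
def In (g : Spor.Fi23) (k : ℕ) : Prop := ∀ i, i < 23 → act g (bPt i) = bPt (perm k i)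

theorem perm_lt {k i : ℕ} (hk : k < 128) (hi : i < 23) : perm k i < 23 :=
  Nat.blt_eq.mp (List.all_eq_true.1 (List.all_eq_true.1 table_ok.1 k (List.mem_range.2 hk)) i (List.mem_range.2 hi))

theorem mul_lt {k l : ℕ} (hk : k < 128) (hl : l < 128) : mul k l < 128 := by
  have h := List.all_eq_true.1 (List.all_eq_true.1 table_ok.2.2.1 k (List.mem_range.2 hk)) l (List.mem_range.2 hl)
  simp only [Bool.and_eq_true, Nat.blt_eq] at h
  exact h.1

theorem in_mul {g h : Spor.Fi23} {k l : ℕ} (hk : k < 128) (hl : l < 128) (hg : In g k) (hh : In h l) :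
    In (g * h) (mul k l) := fun i hi => by
  have e := List.all_eq_true.1 (List.all_eq_true.1 table_ok.2.2.1 k (List.mem_range.2 hk)) l (List.mem_range.2 hl)
  simp only [Bool.and_eq_true, List.all_eq_true, List.mem_range, Nat.beq_eq] at e
  rw [map_mul, Equiv.Perm.mul_apply, hh i hi, hg _ (perm_lt hl hi), e.2 i hi]

theorem in_one : In 1 0 := fun i hi => by
  rw [map_one, Equiv.Perm.one_apply,
    Nat.eq_of_beq_eq_true (List.all_eq_true.1 table_ok.2.1 i (List.mem_range.2 hi))]

theorem in_unique {g : Spor.Fi23} {k l : ℕ} (hk : k < 128) (hl : l < 128) (h : In g k) (h' : In g l) : k = l := by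
  have hn := table_ok.2.2.2.2.2.1
  have e : (List.range 23).map (perm k) = (List.range 23).map (perm l) := List.map_congr_left fun i hi => by
    have hi' := List.mem_range.1 hi
    exact bPt_inj (perm_lt hk hi') (perm_lt hl hi') ((h i hi').symm.trans (h' i hi'))
  exact List.inj_on_of_nodup_map hn (List.mem_range.2 hk) (List.mem_range.2 hl) e

theorem exists_lift : ∀ k < 128, ∃ g, In g k := by
  intro k
  induction k using Nat.strong_induction_on with
  | _ k ih =>
    intro hk
    by_cases h0 : k = 0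
    · exact ⟨1, h0 ▸ in_one⟩
    have hj : Nat.log2 k < 7 := (Nat.log2_lt h0).2 hk
    have hle : 2 ^ Nat.log2 k ≤ k := Nat.log2_self_le h0
    have hlt : k < 2 ^ (Nat.log2 k + 1) := Nat.lt_log2_self
    have hp : 0 < 2 ^ Nat.log2 k := Nat.two_pow_pos _
    obtain ⟨g, hg⟩ := ih (k - 2 ^ Nat.log2 k) (by omega) (by omega)
    have hl : In (word (lifts.getD (Nat.log2 k) [])) (2 ^ Nat.log2 k) := fun i hi =>
      act_maps (List.all_eq_true.1 (List.all_eq_true.1 lift_ok _ (List.mem_range.2 hj)) i (List.mem_range.2 hi))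
    have h := in_mul (by omega) (by omega) hg hl
    have e := List.all_eq_true.1 (List.all_eq_true.1 table_ok.2.2.2.2.1 _ (List.mem_range.2 hj))
      (k - 2 ^ Nat.log2 k) (List.mem_range.2 (by rw [pow_succ] at hlt; omega))
    rw [Nat.eq_of_beq_eq_true e, Nat.sub_add_cancel hle] at h
    exact ⟨_, h⟩

theorem exists_inverse {k : ℕ} (hk : k < 128) : ∃ l < 128, mul k l = 0 ∧ mul l k = 0 := by
  obtain ⟨l, hl, h⟩ := List.any_eq_true.1 (List.all_eq_true.1 table_ok.2.2.2.1 k (List.mem_range.2 hk))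
  simp only [Bool.and_eq_true, Nat.beq_eq] at h
  exact ⟨l, List.mem_range.1 hl, h⟩

theorem in_inv {g : Spor.Fi23} {k l : ℕ} (hk : k < 128) (hl : l < 128) (hkl : mul k l = 0) (hg : In g k) :
    In g⁻¹ l := fun i hi => by
  have e := List.all_eq_true.1 (List.all_eq_true.1 table_ok.2.2.1 k (List.mem_range.2 hk)) l (List.mem_range.2 hl)
  simp only [Bool.and_eq_true, List.all_eq_true, List.mem_range, Nat.beq_eq] at e
  have h0 : perm (mul k l) i = i := by
    rw [hkl]; exact Nat.eq_of_beq_eq_true (List.all_eq_true.1 table_ok.2.1 i (List.mem_range.2 hi))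
  rw [map_inv, Equiv.Perm.inv_eq_iff_eq, hg _ (perm_lt hl hi), e.2 i hi, h0]

/-- The Sylow subgroup. -/
noncomputable def T0 : Subgroup Spor.Fi23 where
  carrier := {g | ∃ k < 128, In g k}
  one_mem' := ⟨0, by omega, in_one⟩
  mul_mem' := fun {g h} ⟨k, hk, hg⟩ ⟨l, hl, hh⟩ => ⟨mul k l, mul_lt hk hl, in_mul hk hl hg hh⟩
  inv_mem' := fun {g} ⟨k, hk, hg⟩ => by
    obtain ⟨l, hl, hkl, -⟩ := exists_inverse hk
    exact ⟨l, hl, in_inv hk hl hkl hg⟩

theorem mem_E_of_in {g : Spor.Fi23} (h : In g 0) : g ∈ E := mem_E.2 fun i hi => by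
  rw [h i hi, Nat.eq_of_beq_eq_true (List.all_eq_true.1 table_ok.2.1 i (List.mem_range.2 hi))]

theorem in_of_mem_E {g : Spor.Fi23} (h : g ∈ E) : In g 0 := fun i hi => by
  rw [mem_E.1 h i hi, Nat.eq_of_beq_eq_true (List.all_eq_true.1 table_ok.2.1 i (List.mem_range.2 hi))]

theorem E_le : E ≤ T0 := fun _ hg => ⟨0, by omega, in_of_mem_E hg⟩

theorem E_normal {g e : Spor.Fi23} (hg : g ∈ T0) (he : e ∈ E) : g * e * g⁻¹ ∈ E := by
  obtain ⟨k, hk, hgk⟩ := hg
  obtain ⟨l, hl, hkl, -⟩ := exists_inverse hk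
  have hi := in_inv hk hl hkl hgk
  refine mem_E.2 fun i hi' => ?_
  rw [map_mul, map_mul, Equiv.Perm.mul_apply, Equiv.Perm.mul_apply, hi i hi', mem_E.1 he _ (perm_lt hl hi'),
    hgk _ (perm_lt hl hi')]
  have e := List.all_eq_true.1 (List.all_eq_true.1 table_ok.2.2.1 k (List.mem_range.2 hk)) l (List.mem_range.2 hl)
  simp only [Bool.and_eq_true, List.all_eq_true, List.mem_range, Nat.beq_eq] at e
  rw [e.2 i hi', hkl, Nat.eq_of_beq_eq_true (List.all_eq_true.1 table_ok.2.1 i (List.mem_range.2 hi'))]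

theorem card_T0 : Nat.card T0 = 2 ^ 18 := by
  choose s hs using exists_lift
  let f : Fin 128 × E → T0 := fun p => ⟨p.2.1 * s p.1.1 p.1.2, mul_mem (E_le p.2.2) ⟨_, p.1.2, hs _ p.1.2⟩⟩
  have hin : ∀ (k : ℕ) (hk : k < 128) (e : E), In (e.1 * s k hk) k := fun k hk e i hi => by
    rw [map_mul, Equiv.Perm.mul_apply, hs k hk i hi, mem_E.1 e.2 _ (perm_lt hk hi)]
  have hf : Function.Bijective f := by
    constructor
    · rintro ⟨⟨k, hk⟩, e⟩ ⟨⟨l, hl⟩, e'⟩ h
      have h' : e.1 * s k hk = e'.1 * s l hl := congrArg Subtype.val h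
      have hkl : k = l := in_unique hk hl (hin k hk e) (h' ▸ hin l hl e')
      subst hkl
      exact Prod.ext rfl (Subtype.ext (mul_right_cancel h'))
    · rintro ⟨g, k, hk, hg⟩
      obtain ⟨l, hl, hkl, -⟩ := exists_inverse hk
      have hmem : g * (s k hk)⁻¹ ∈ E := by
        have h := in_mul hk hl hg (in_inv hk hl hkl (hs k hk))
        rw [hkl] at h
        exact mem_E_of_in h
      exact ⟨(⟨k, hk⟩, ⟨_, hmem⟩), Subtype.ext (inv_mul_cancel_right g (s k hk))⟩
  rw [← Nat.card_eq_of_bijective f hf, Nat.card_prod, Nat.card_fin, card_E.1]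
  norm_num

theorem conj_eM {g : Spor.Fi23} {k : ℕ} (hk : k < 128) (hg : In g k) (m : ℕ) :
    g * eM m * g⁻¹ = eM (lin k m) := by
  have key : ∀ L : List ℕ, (∀ j ∈ L, j < 11) → g * (L.map (pick m)).prod * g⁻¹ =
      eM (L.foldr (fun j r => (if m.testBit j then coord (perm k j) else 0) ^^^ r) 0) := by
    intro L
    induction L with
    | nil => intro _; simp [eM_zero]
    | cons j L ih =>
      intro h
      have hj : j < 23 := by have := h j (by simp); omega
      rw [List.map_cons, List.prod_cons, List.foldr_cons, ← eM_mul,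
        ← ih fun i hi => h i (List.mem_cons_of_mem _ hi)]
      have e : g * pick m j * g⁻¹ = eM (if m.testBit j then coord (perm k j) else 0) := by
        unfold pick
        split_ifs
        · rw [d_conj hj (perm_lt hk hj) (hg j hj), d_coord (perm_lt hk hj)]
        · simp [eM_zero]
      rw [← e]
      group
  exact key _ fun j hj => List.mem_range.1 hj

theorem lin_lt (k : ℕ) (hk : k < 128) (m : ℕ) : lin k m < 2048 := by
  have key : ∀ L : List ℕ, (∀ j ∈ L, j < 11) →
      L.foldr (fun j r => (if m.testBit j then coord (perm k j) else 0) ^^^ r) 0 < 2 ^ 11 := by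
    intro L
    induction L with
    | nil => intro _; simp
    | cons j L ih =>
      intro h
      refine Nat.xor_lt_two_pow ?_ (ih fun i hi => h i (List.mem_cons_of_mem _ hi))
      split_ifs
      · have hc := List.all_eq_true.1 coord_ok (perm k j)
          (List.mem_range.2 (perm_lt hk (by have := h j (by simp); omega)))
        simp only [Bool.and_eq_true, Nat.blt_eq] at hc
        exact hc.1
      · norm_num
  exact key _ fun j hj => List.mem_range.1 hj

theorem noMore_bound {K : Finset ℕ} (hK : ∀ k ∈ K, k < 128) (hmul : ∀ k ∈ K, ∀ l ∈ K, mul k l ∈ K)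
    (hinv : ∀ k ∈ K, mul k k = 0) (hcomm : ∀ k ∈ K, ∀ l ∈ K, mul k l = mul l k) :
    ∀ (n fr : ℕ) (ch span : List ℕ), noMore n fr ch span = true → (∀ c ∈ ch, c ∈ K) → (∀ s ∈ span, s ∈ K) →
      (∀ k ∈ K, k < fr → k ∈ span) → 0 ∈ span → span.length * 2 ^ n ≤ 32 → K.card ≤ 16
  | 0, _, _, _, h, _, _, _, _, _ => absurd h (by simp [noMore])
  | n + 1, fr, ch, span, h, hch, hsp, hlow, h0s, hlen => by
    classical
    by_cases hall : ∀ k ∈ K, k ∈ span
    · calc K.card ≤ span.toFinset.card := Finset.card_le_card fun k hk => List.mem_toFinset.2 (hall k hk)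
        _ ≤ span.length := List.toFinset_card_le _
        _ ≤ 16 := by
          have h1 : 1 ≤ 2 ^ n := Nat.one_le_two_pow
          rw [pow_succ] at hlen
          nlinarith
    push Not at hall
    obtain ⟨k₀, hk₀, hk₀'⟩ := hall
    have hex : ∃ k, k ∈ K ∧ k ∉ span := ⟨k₀, hk₀, hk₀'⟩
    obtain ⟨hkK, hks⟩ := Nat.find_spec hex
    set k := Nat.find hex
    have hfr : fr ≤ k := Nat.not_lt.1 fun hlt => hks (hlow k hkK hlt)
    have hc := List.all_eq_true.1 (show ((List.range 128).all fun k =>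
      Nat.blt k fr || !(Nat.beq (mul k k) 0) || !(ch.all fun c => Nat.beq (mul k c) (mul c k)) ||
        span.contains k || noMore n (k + 1) (k :: ch) (span ++ span.map fun s => mul s k)) = true from h)
      k (List.mem_range.2 (hK k hkK))
    have e1 : Nat.blt k fr = false := Bool.eq_false_iff.2 fun e => by rw [Nat.blt_eq] at e; omega
    have e2 : Nat.beq (mul k k) 0 = true := by rw [hinv k hkK]; rfl
    have e3 : (ch.all fun c => Nat.beq (mul k c) (mul c k)) = true :=
      List.all_eq_true.2 fun c hc => by rw [hcomm k hkK c (hch c hc)]; exact Nat.beq_refl _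
    have e4 : span.contains k = false := Bool.eq_false_iff.2 fun e => hks (List.contains_iff_mem.1 e)
    rw [e1, e2, e3, e4] at hc
    simp only [Bool.not_true, Bool.false_or] at hc
    refine noMore_bound hK hmul hinv hcomm n (k + 1) _ _ hc ?_ ?_ ?_ (List.mem_append_left _ h0s) ?_
    · intro c hc
      rcases List.mem_cons.1 hc with rfl | hc
      exacts [hkK, hch c hc]
    · intro s hs
      rcases List.mem_append.1 hs with hs | hs
      · exact hsp s hs
      · obtain ⟨s', hs', rfl⟩ := List.mem_map.1 hs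
        exact hmul _ (hsp s' hs') _ hkK
    · intro x hx hxlt
      by_cases hxs : x ∈ span
      · exact List.mem_append_left _ hxs
      · have hxk : x = k := le_antisymm (by omega) (Nat.find_min' hex ⟨hx, hxs⟩)
        subst hxk
        obtain ⟨s, hs, h0⟩ : ∃ s ∈ span, mul s k = k := by
          refine ⟨0, h0s, ?_⟩
          have hk128 := hK k hkK
          obtain ⟨g, hg⟩ := exists_lift k hk128
          have := in_mul (by omega) hk128 in_one hg
          rw [one_mul] at this
          exact in_unique (mul_lt (by omega) hk128) hk128 this hg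
        exact List.mem_append_right _ (List.mem_map.2 ⟨s, hs, h0⟩)
    · rw [List.length_append, List.length_map, pow_succ] at *
      nlinarith

/-- Masks of a subgroup fixed by chosen permutations number at most a fraction of all. -/
theorem fixed_count (F : Finset ℕ) (hF : ∀ v ∈ F, v < 2048) (hcl : ∀ v ∈ F, ∀ w ∈ F, v ^^^ w ∈ F)
    (S : List ℕ) (n : ℕ) (moved : ℕ → Bool) (hS : movedSet S n moved = true)
    (hmv : ∀ v ∈ F, moved v = false) : F.card * n ≤ 2048 := by
  classical
  simp only [movedSet, Bool.and_eq_true, Nat.beq_eq, decide_eq_true_eq, List.all_eq_true, Nat.blt_eq,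
    List.contains_iff_mem, Bool.or_eq_true] at hS
  obtain ⟨⟨⟨⟨hlen, hnd⟩, hlt⟩, hclS⟩, hmove⟩ := hS
  have key : ((F ×ˢ S.toFinset).image fun p => p.1 ^^^ p.2).card = (F ×ˢ S.toFinset).card := by
    refine Finset.card_image_of_injOn ?_
    rintro ⟨v, s⟩ hp ⟨w, t⟩ hq h
    simp only [Finset.coe_product, Set.mem_prod, Finset.mem_coe, List.mem_toFinset] at hp hq
    have e : v ^^^ w = s ^^^ t := Nat.eq_of_testBit_eq fun i => by
      have := congrArg (fun n => n.testBit i) h
      simp only [Nat.testBit_xor] at this ⊢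
      revert this
      cases v.testBit i <;> cases w.testBit i <;> cases s.testBit i <;> cases t.testBit i <;> simp
    have hst : s ^^^ t = 0 := by
      rcases hmove _ (hclS s hp.2 t hq.2) with h0 | h0
      · exact h0
      · rw [← e, hmv _ (hcl v hp.1 w hq.1)] at h0
        exact Bool.noConfusion h0
    rw [hst] at e
    exact Prod.ext (Nat.xor_eq_zero_iff.1 e) (Nat.xor_eq_zero_iff.1 hst)
  have hle : ((F ×ˢ S.toFinset).image fun p => p.1 ^^^ p.2).card ≤ (Finset.range 2048).card := by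
    refine Finset.card_le_card fun x hx => ?_
    obtain ⟨⟨v, s⟩, hp, rfl⟩ := Finset.mem_image.1 hx
    rw [Finset.mem_product, List.mem_toFinset] at hp
    exact Finset.mem_range.2 (Nat.xor_lt_two_pow (n := 11) (hF v hp.1) (hlt s hp.2))
  rw [key, Finset.card_product, List.toFinset_card_of_nodup hnd, hlen, Finset.card_range] at hle
  exact hle

/-- Elementary abelian subgroups of the Sylow subgroup. -/
theorem abelian_bound {A : Subgroup Spor.Fi23} (hA : A ≤ T0) (hel : Cfsg.IsElementaryAbelian 2 A) :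
    Nat.card A ≤ 2 ^ 11 ∧ (Nat.card A = 2 ^ 11 → A = E) := by
  classical
  have hcomm : ∀ a ∈ A, ∀ b ∈ A, a * b = b * a := fun a ha b hb =>
    congrArg Subtype.val (hel.1.is_comm.comm (⟨a, ha⟩ : A) ⟨b, hb⟩)
  by_cases hAE : A ≤ E
  · have hle := Subgroup.card_le_of_le hAE
    rw [card_E.1] at hle
    exact ⟨by omega, fun h => Subgroup.eq_of_le_of_card_ge hAE (by rw [h, card_E.1]; norm_num)⟩
  suffices h : Nat.card A ≤ 2 ^ 10 by exact ⟨by omega, fun h' => absurd h' (by omega)⟩
  choose κ hκ hκin using fun a : A => hA a.2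
  let K : Finset ℕ := (Finset.range 128).filter fun k => ∃ a : A, κ a = k
  have hmemK : ∀ {k}, k ∈ K → ∃ a : A, κ a = k := fun hk => (Finset.mem_filter.1 hk).2
  have hKmem : ∀ a : A, κ a ∈ K := fun a => Finset.mem_filter.2 ⟨Finset.mem_range.2 (hκ a), a, rfl⟩
  have hK : ∀ k ∈ K, k < 128 := fun k hk => Finset.mem_range.1 (Finset.mem_filter.1 hk).1
  have hκmul : ∀ a b : A, κ (a * b) = mul (κ a) (κ b) := fun a b =>
    in_unique (hκ _) (mul_lt (hκ a) (hκ b)) (hκin _) (in_mul (hκ a) (hκ b) (hκin a) (hκin b))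
  have hκone : κ 1 = 0 := in_unique (hκ _) (by omega) (hκin _) in_one
  have hmul : ∀ k ∈ K, ∀ l ∈ K, mul k l ∈ K := fun k hk l hl => by
    obtain ⟨a, rfl⟩ := hmemK hk
    obtain ⟨b, rfl⟩ := hmemK hl
    exact hκmul a b ▸ hKmem _
  have hinv : ∀ k ∈ K, mul k k = 0 := fun k hk => by
    obtain ⟨a, rfl⟩ := hmemK hk
    rw [← hκmul, ← hκone]
    exact congrArg κ (Subtype.ext (by simpa [pow_two] using hel.2 a a.2))
  have hcommK : ∀ k ∈ K, ∀ l ∈ K, mul k l = mul l k := fun k hk l hl => by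
    obtain ⟨a, rfl⟩ := hmemK hk
    obtain ⟨b, rfl⟩ := hmemK hl
    rw [← hκmul, ← hκmul]
    exact congrArg κ (Subtype.ext (hcomm a a.2 b b.2))
  let F : Finset ℕ := (Finset.range 2048).filter fun m => eM m ∈ A
  have hF : ∀ v ∈ F, v < 2048 := fun v hv => Finset.mem_range.1 (Finset.mem_filter.1 hv).1
  have hcl : ∀ v ∈ F, ∀ w ∈ F, v ^^^ w ∈ F := fun v hv w hw => Finset.mem_filter.2
    ⟨Finset.mem_range.2 (Nat.xor_lt_two_pow (n := 11) (hF v hv) (hF w hw)),
      eM_mul v w ▸ mul_mem (Finset.mem_filter.1 hv).2 (Finset.mem_filter.1 hw).2⟩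
  have hfix : ∀ k ∈ K, ∀ v ∈ F, Nat.beq (lin k v) v = true := fun k hk v hv => by
    obtain ⟨a, rfl⟩ := hmemK hk
    have hva := (Finset.mem_filter.1 hv).2
    have h := conj_eM (hκ a) (hκin a) v
    rw [hcomm a a.2 _ hva, mul_inv_cancel_right] at h
    rw [← eM_inj (hF v hv) (lin_lt _ (hκ a) v) h]
    exact Nat.beq_refl _
  -- fibres
  have hcard : Nat.card A ≤ K.card * F.card := by
    choose rep hrep using fun k : K => hmemK k.2
    have hmem : ∀ a : A, ((a : Spor.Fi23) * (rep ⟨κ a, hKmem a⟩ : A)) ∈ E := fun a => by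
      have hb := hrep ⟨κ a, hKmem a⟩
      refine mem_E_of_in ?_
      have := in_mul (hκ a) (hκ (rep ⟨κ a, hKmem a⟩)) (hκin a) (hκin _)
      rwa [hb, hinv _ (hKmem a)] at this
    choose m hm hma using fun a : A => card_E.2 _ (hmem a)
    let f : A → K × F := fun a => (⟨κ a, hKmem a⟩, ⟨m a, Finset.mem_filter.2 ⟨Finset.mem_range.2 (hm a),
      hma a ▸ mul_mem a.2 (rep _ : A).2⟩⟩)
    have hf : Function.Injective f := fun a b h => by
      simp only [f, Prod.mk.injEq, Subtype.mk.injEq] at h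
      have e : (a : Spor.Fi23) * (rep ⟨κ a, hKmem a⟩ : A) = b * (rep ⟨κ b, hKmem b⟩ : A) := by
        rw [hma, hma, h.2]
      rw [show (⟨κ a, hKmem a⟩ : K) = ⟨κ b, hKmem b⟩ from Subtype.ext h.1] at e
      exact Subtype.ext (mul_right_cancel e)
    simpa [Nat.card_prod] using Nat.card_le_card_of_injective f hf
  have h16 : K.card ≤ 16 := by
    refine noMore_bound hK hmul hinv hcommK 5 1 [] [0] noFive_ok (by simp) ?_ ?_ (by simp) (by norm_num)
    · intro s hs
      rw [List.mem_singleton.1 hs]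
      exact hκone ▸ hKmem 1
    · intro k _ hk
      simp; omega
  obtain ⟨k₁, hk₁, hk₁0⟩ : ∃ k ∈ K, k ≠ 0 := by
    by_contra hall
    push Not at hall
    exact hAE fun a ha => mem_E_of_in (hall _ (hKmem ⟨a, ha⟩) ▸ hκin ⟨a, ha⟩)
  by_cases htwo : ∀ k ∈ K, k = 0 ∨ k = k₁
  · have h2 : K.card ≤ 2 := by
      refine le_trans (Finset.card_le_card (t := {0, k₁}) fun k hk => ?_) Finset.card_le_two
      simpa using htwo k hk
    have h := List.all_eq_true.1 single_ok k₁ (List.mem_range.2 (hK k₁ hk₁))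
    simp only [Bool.or_eq_true, Bool.not_eq_true', Nat.beq_eq, List.any_eq_true, Bool.and_eq_true] at h
    rcases h with (h | h) | ⟨c, -, -, hc⟩
    · exact absurd h hk₁0
    · simp [hinv k₁ hk₁] at h
    · have := fixed_count F hF hcl _ _ _ hc fun v hv => by simp [hfix k₁ hk₁ v hv]
      calc Nat.card A ≤ K.card * F.card := hcard
        _ ≤ 2 * F.card := Nat.mul_le_mul_right _ h2
        _ ≤ 2 ^ 10 := by norm_num; omega
  · push Not at htwo
    obtain ⟨k₂, hk₂, hk₂0, hk₂1⟩ := htwo
    have key : ∀ k l, k ∈ K → l ∈ K → k ≠ 0 → k < l → 32 * F.card ≤ 2048 := fun k l hk hl hk0 hkl => by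
      have h := List.all_eq_true.1 pair_ok k (List.mem_range.2 (hK k hk))
      simp only [Bool.or_eq_true, Bool.not_eq_true', Nat.beq_eq, List.all_eq_true] at h
      rcases h with (h | h) | h
      · exact absurd h hk0
      · simp [hinv k hk] at h
      have h' := h l (List.mem_range.2 (hK l hl))
      simp only [List.any_eq_true, Bool.and_eq_true] at h'
      rcases h' with ((h' | h') | h') | ⟨c, -, -, hc⟩
      · rw [Bool.eq_false_iff, ne_eq, Nat.blt_eq] at h'
        exact absurd hkl h'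
      · simp [hinv l hl] at h'
      · simp [hcommK k hk l hl] at h'
      · have := fixed_count F hF hcl _ _ _ hc fun v hv => by simp [hfix k hk v hv, hfix l hl v hv]
        omega
    have hF32 : 32 * F.card ≤ 2048 := by
      rcases Nat.lt_or_gt_of_ne hk₂1 with h | h
      · exact key k₂ k₁ hk₂ hk₁ hk₂0 h
      · exact key k₁ k₂ hk₁ hk₂ hk₁0 h
    calc Nat.card A ≤ K.card * F.card := hcard
      _ ≤ 16 * F.card := Nat.mul_le_mul_right _ h16
      _ ≤ 2 ^ 10 := by norm_num; omega

/-- The statement for any Sylow 2-subgroup. -/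
theorem sylow_normal_elementary (T : Sylow 2 Spor.Fi23) :
    (∀ A : Subgroup Spor.Fi23, A ≤ T → (A.subgroupOf T).Normal → Cfsg.IsElementaryAbelian 2 A →
        Nat.card A ≤ 2 ^ 11) ∧
    ∃! A : Subgroup Spor.Fi23, A ≤ T ∧ (A.subgroupOf T).Normal ∧ Cfsg.IsElementaryAbelian 2 A ∧
        Nat.card A = 2 ^ 11 := by
  have : Fact (Nat.Prime 2) := ⟨Nat.prime_two⟩
  obtain ⟨S, hS⟩ : ∃ S : Sylow 2 Spor.Fi23, (S : Subgroup Spor.Fi23) = T0 := by
    refine ⟨Sylow.ofCard T0 ?_, rfl⟩
    rw [card_T0, FiThree.card_fi23]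
    congr 1
    rw [show (4089470473293004800 : ℕ) = 2 ^ 18 * 15600091832325 by norm_num,
      Nat.factorization_mul (by norm_num) (by norm_num), Finsupp.add_apply, Nat.Prime.factorization_pow Nat.prime_two,
      Finsupp.single_eq_same, Nat.factorization_eq_zero_of_not_dvd (by norm_num)]
  obtain ⟨g, hg⟩ := MulAction.exists_smul_eq (Spor.Fi23) S T
  let c : Spor.Fi23 ≃* Spor.Fi23 := MulAut.conj g
  have hT : (T : Subgroup Spor.Fi23) = T0.map c.toMonoidHom := by
    rw [← hg, ← hS]; rfl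
  let E' := E.map c.toMonoidHom
  have hiff : ∀ A : Subgroup Spor.Fi23, A ≤ T → Cfsg.IsElementaryAbelian 2 A →
      Nat.card A ≤ 2 ^ 11 ∧ (Nat.card A = 2 ^ 11 → A = E') := by
    intro A hAT hel
    let A₀ := A.map c.symm.toMonoidHom
    have hA₀ : A₀ ≤ T0 := by
      rintro _ ⟨a, ha, rfl⟩
      obtain ⟨t, ht, rfl⟩ := (hT ▸ hAT ha : a ∈ T0.map c.toMonoidHom)
      simpa using ht
    have hel₀ : Cfsg.IsElementaryAbelian 2 A₀ := by
      refine ⟨⟨⟨?_⟩⟩, ?_⟩
      · rintro ⟨_, a, ha, rfl⟩ ⟨_, b, hb, rfl⟩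
        refine Subtype.ext ?_
        show c.symm a * c.symm b = c.symm b * c.symm a
        rw [← map_mul, ← map_mul]
        exact congrArg _ (congrArg Subtype.val (hel.1.is_comm.comm (⟨a, ha⟩ : A) ⟨b, hb⟩))
      · rintro _ ⟨a, ha, rfl⟩
        rw [← map_pow, hel.2 a ha, map_one]
    have hc : Nat.card A₀ = Nat.card A := Subgroup.card_map_of_injective c.symm.injective
    obtain ⟨h1, h2⟩ := abelian_bound hA₀ hel₀
    refine ⟨hc ▸ h1, fun h => ?_⟩
    have e : A.map c.symm.toMonoidHom = E := h2 (hc.trans h)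
    show A = E.map c.toMonoidHom
    rw [← e, Subgroup.map_map]
    ext x
    simp [Subgroup.mem_map]
  refine ⟨fun A hAT _ hel => (hiff A hAT hel).1, E', ⟨?_, ?_, ?_, ?_⟩,
    fun A hA => (hiff A hA.1 hA.2.2.1).2 hA.2.2.2⟩
  · rw [hT]; exact Subgroup.map_mono E_le
  · refine Subgroup.Normal.mk fun n hn t => ?_
    obtain ⟨e, he, he'⟩ := (Subgroup.mem_subgroupOf.1 hn : (n : Spor.Fi23) ∈ E')
    obtain ⟨t', ht', ht''⟩ := (hT ▸ t.2 : (t : Spor.Fi23) ∈ T0.map c.toMonoidHom)
    refine Subgroup.mem_subgroupOf.2 ⟨t' * e * t'⁻¹, E_normal ht' he, ?_⟩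
    rw [map_mul, map_mul, map_inv, he', ht'']
    rfl
  · refine ⟨⟨⟨?_⟩⟩, ?_⟩
    · rintro ⟨_, a, ha, rfl⟩ ⟨_, b, hb, rfl⟩
      refine Subtype.ext ?_
      show c a * c b = c b * c a
      rw [← map_mul, ← map_mul]
      exact congrArg _ (congrArg Subtype.val (elementary_E.1.is_comm.comm (⟨a, ha⟩ : E) ⟨b, hb⟩))
    · rintro _ ⟨a, ha, rfl⟩
      rw [← map_pow, elementary_E.2 a ha, map_one]
  · rw [Subgroup.card_map_of_injective c.injective, card_E.1]
    norm_num

end CfsgLib.Recog.FiThreeSylow
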